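import Groth.Prelude.Def_Neron
import Mathlib

/-!
# The generic fibre of a flat scheme is schematically dense
-/

universe u

open CategoryTheory CategoryTheory.Limits AlgebraicGeometry

set_option backward.isDefEq.respectTransparency false

namespace Groth.Agent.NeronGen

/-- a closed immersion through which a schematically dominant morphism factors is an isomorphism -/
theorem isIso_of_factors {Z P Q : Scheme.{u}} (i : Z ⟶ P) [IsClosedImmersion i] (q : Q ⟶ P)
    [IsSchemeTheoreticallyDominant q] (l : Q ⟶ Z) (hl : l ≫ i = q) : IsIso i := by
  have hi : i.ker ≤ (𝟙 P : P ⟶ P).ker := by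
    have h1 : i.ker ≤ q.ker := hl ▸ Scheme.Hom.le_ker_comp _ i
    rw [q.ker_eq_bot] at h1
    exact h1.trans bot_le
  refine ⟨IsClosedImmersion.lift i (𝟙 P) hi, ?_, IsClosedImmersion.lift_fac _ _ _⟩
  rw [← cancel_mono i, Category.assoc, IsClosedImmersion.lift_fac, Category.comp_id, Category.id_comp]

variable (R : Type u) [CommRing R] [IsDomain R]

theorem schDom_genPt : IsSchemeTheoreticallyDominant (Neron.genPt R) := by
  have : _root_.IsReduced R := inferInstance
  have : IsReduced (Spec (CommRingCat.of R)) := inferInstance
  have : IsDominant (Neron.genPt R) := by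
    constructor
    exact PrimeSpectrum.denseRange_comap_iff_ker_le_nilRadical _ |>.2 (by
      exact ((RingHom.injective_iff_ker_eq_bot _).1 (IsFractionRing.injective R (FractionRing R))).trans_le bot_le)
  exact .of_isDominant _

instance schDom_genericFibre_fst (X : Over (Spec (CommRingCat.of R))) [Flat X.hom] :
    IsSchemeTheoreticallyDominant (pullback.fst X.hom (Neron.genPt R)) := by
  have := schDom_genPt R
  have : QuasiCompact (Neron.genPt R) := inferInstance
  infer_instance

/-- morphisms into a separated scheme agreeing on the generic fibre agree -/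
theorem ext {X Y : Over (Spec (CommRingCat.of R))} [Flat X.hom] [IsSeparated Y.hom] (f g : X ⟶ Y)
    (h : (Neron.genericFibre R).map f = (Neron.genericFibre R).map g) : f = g := by
  let q := pullback.fst X.hom (Neron.genPt R)
  have hq : q ≫ f.left = q ≫ g.left := by
    have h' := congrArg (fun k => k.left ≫ pullback.fst Y.hom (Neron.genPt R)) h
    simp only [Over.pullback_map_left, pullback.lift_fst] at h'
    exact h'
  let c : X.left ⟶ pullback Y.hom Y.hom := pullback.lift f.left g.left (by rw [Over.w, Over.w])
  let i := pullback.snd (pullback.diagonal Y.hom) c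
  have : IsClosedImmersion i := MorphismProperty.pullback_snd (pullback.diagonal Y.hom) c inferInstance
  have hl : (q ≫ f.left) ≫ pullback.diagonal Y.hom = q ≫ c := by
    apply pullback.hom_ext
    · simp [c]
    · simp [c, hq]
  have := schDom_genericFibre_fst R X
  have : IsIso i := isIso_of_factors i q (pullback.lift _ _ hl) (pullback.lift_snd _ _ _)
  have hr : (inv i ≫ pullback.fst (pullback.diagonal Y.hom) c) ≫ pullback.diagonal Y.hom = c := by
    rw [Category.assoc, pullback.condition, IsIso.inv_hom_id_assoc]
  have ha := congrArg (· ≫ pullback.fst _ _) hr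
  have hb := congrArg (· ≫ pullback.snd _ _) hr
  simp only [c, Category.assoc, pullback.diagonal_fst, pullback.diagonal_snd, Category.comp_id,
    pullback.lift_fst, pullback.lift_snd] at ha hb
  ext1
  exact ha.symm.trans hb

/-- a morphism from a flat scheme whose generic fibre factors through a closed subscheme factors -/
theorem exists_factor {Y G X : Over (Spec (CommRingCat.of R))} [Flat Y.hom] (i : G ⟶ X) [IsClosedImmersion i.left]
    (g : Y ⟶ X) (yK : (Neron.genericFibre R).obj Y ⟶ (Neron.genericFibre R).obj G)
    (h : yK ≫ (Neron.genericFibre R).map i = (Neron.genericFibre R).map g) :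
    ∃ l : Y ⟶ G, l ≫ i = g := by
  let q := pullback.fst Y.hom (Neron.genPt R)
  have hl : (yK.left ≫ pullback.fst G.hom (Neron.genPt R)) ≫ i.left = q ≫ g.left := by
    have h' := congrArg (fun k => k.left ≫ pullback.fst X.hom (Neron.genPt R)) h
    simp only [Over.comp_left, Category.assoc, Over.pullback_map_left, pullback.lift_fst] at h'
    simpa only [Category.assoc] using h'
  let j := pullback.snd i.left g.left
  have : IsClosedImmersion j := MorphismProperty.pullback_snd i.left g.left inferInstance
  have := schDom_genericFibre_fst R Y
  have : IsIso j := isIso_of_factors j q (pullback.lift _ _ hl) (pullback.lift_snd _ _ _)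
  have e : (inv j ≫ pullback.fst i.left g.left) ≫ i.left = g.left := by
    rw [Category.assoc, pullback.condition, IsIso.inv_hom_id_assoc]
  refine ⟨Over.homMk (inv j ≫ pullback.fst i.left g.left) ?_, by ext1; exact e⟩
  rw [← Over.w i, ← Category.assoc, e, Over.w]

end Groth.Agent.NeronGen
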